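import Cfsg.Agent.H58.Util

set_option autoImplicit false
set_option Elab.async false
set_option maxRecDepth 100000

namespace Cfsg.Agent.CO1.WA

def iv : Nat := 10558443385856725120

def rels : List (List Nat) := [[1, 1, 1],
  [3, 3],
  [5, 5],
  [7, 7],
  [9, 9],
  [2, 3, 2, 3, 2, 3],
  [2, 5, 2, 5],
  [2, 7, 2, 7],
  [2, 9, 2, 9],
  [4, 5, 4, 5, 4, 5],
  [4, 7, 4, 7, 4, 7],
  [4, 9, 4, 9],
  [6, 7, 6, 7],
  [6, 9, 6, 9, 6, 9],
  [8, 9, 8, 9]]

end Cfsg.Agent.CO1.WA

namespace Cfsg.Agent.CO1.WA1

open Cfsg.Agent.H58 Cfsg.Agent.CO1.WA

noncomputable def tb0 : Nat → Nat := (lf (nat_lit 0x10400008200000000000000000000000000000000000000000000000000000000000000000000000000000000000000000000000000000000000000000000000000000000000000000000000000000000000000000000000000000000000000000000000000000000000000000000000000000000000000000000000000000000000000000000000000000000000000000000000000000000000000000000000000000000000000000000000000000000000000000000000000000000000000000000000000000000002040000020000108000001))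
noncomputable def rk0 : Nat → Nat := (lf (nat_lit 0x20000100000))
noncomputable def st0 : Nat → Nat := (lf (nat_lit 0x1e80003e02))
noncomputable def cl0 : Nat → Nat := (lf (nat_lit 0x1f00001f00007f))

noncomputable def tbl : Nat → Nat := (nd (nat_lit 1) tb0 (lf (nat_lit 0)))
noncomputable def rnk : Nat → Nat := (nd (nat_lit 1) rk0 (lf (nat_lit 0)))
noncomputable def str : Nat → Nat := (nd (nat_lit 1) st0 (lf (nat_lit 0)))
noncomputable def clo : Nat → Nat := (nd (nat_lit 1) cl0 (lf (nat_lit 0)))
def tree : ST := (ST.node (ST.node ST.nil (nat_lit 1) (nat_lit 0) (nat_lit 0) ST.nil) (nat_lit 270466) (nat_lit 2) (nat_lit 2) ST.nil)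

theorem d0 : sumPow (grd 2 (defn tbl rnk (okPair iv))) 6 0 = 0 := by decide +kernel
theorem s0 : sumPow (grd 1 (chunk tbl (okRule iv tree) str 9)) 3 0 = 0 := by decide +kernel
theorem c0 : sumPow (clchunk tbl clo 639 191 1 67108865) 12 0 = 0 := by decide +kernel

noncomputable def C : Cert := ⟨tbl, rnk, str, clo, tree, 2, 30, 9, 1, []⟩

theorem good : C.Good rels iv :=
  ⟨by decide, by decide +kernel,
   all_lt_of_gblocks _ 6 2 1 (by decide) (blocks_cons (blocks_nil _) d0),
   by decide +kernel,
   all_lt_of_gblocks _ 3 1 1 (by decide) (blocks_cons (blocks_nil _) s0)⟩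

theorem closed : C.Closed [1] 2 :=
  ⟨by decide, by decide, 639, 191, 1, 67108865, by decide, by decide, by decide +kernel,
    all_lt_of_blocks _ 12 1 1 (by decide) (blocks_cons (blocks_nil _) c0)⟩

theorem relIndex_le {G : Type*} [Group G] {el : ℕ → G} (R : RuleOK el rels iv) (H : Subgroup G)
    (hfix : ∀ x ∈ ([] : List ℕ), el x ∈ H) :
    H.relIndex (Subgroup.closure (el '' {x | x ∈ ([1] : List ℕ)})) ≠ 0 ∧
      H.relIndex (Subgroup.closure (el '' {x | x ∈ ([1] : List ℕ)})) ≤ 3 :=
  Cert.relIndex_le good closed R H hfix


end Cfsg.Agent.CO1.WA1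

namespace Cfsg.Agent.CO1.WA2

open Cfsg.Agent.H58 Cfsg.Agent.CO1.WA

noncomputable def tb0 : Nat → Nat := (lf (nat_lit 0x31000008300002100000c300002040000c2000001000004300000000000000000000000000000000000000000000000000000000000000000000000000000000000000000000000000000000000000000000000000000000000000000000000000000000000000000000000000000000000000000000000000000000000000000000000000000000000000000000000000000000000000000000000000000000000000000000000000000000000000000000000000000000000000000000000000000000000000000000000000000000008000001000030400004200002080000410000110000003))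
noncomputable def rk0 : Nat → Nat := (lf (nat_lit 0x3000020000100000))
noncomputable def st0 : Nat → Nat := (lf (nat_lit 0x10100007e00010c0001e0000030000800a0000f40001f0100003f01))
noncomputable def cl0 : Nat → Nat := (lf (nat_lit 0xf40000ec0001e0000390000fa0000fc0003c80007f))

noncomputable def tbl : Nat → Nat := (nd (nat_lit 1) tb0 (lf (nat_lit 0)))
noncomputable def rnk : Nat → Nat := (nd (nat_lit 1) rk0 (lf (nat_lit 0)))
noncomputable def str : Nat → Nat := (nd (nat_lit 1) st0 (lf (nat_lit 0)))
noncomputable def clo : Nat → Nat := (nd (nat_lit 1) cl0 (lf (nat_lit 0)))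
def tree : ST := (ST.node (ST.node (ST.node ST.nil (nat_lit 1) (nat_lit 0) (nat_lit 0) ST.nil) (nat_lit 4291) (nat_lit 3) (nat_lit 1) ST.nil) (nat_lit 270466) (nat_lit 2) (nat_lit 2) (ST.node ST.nil (nat_lit 70917828739) (nat_lit 11) (nat_lit 5) ST.nil))

theorem d0 : sumPow (grd 3 (defn tbl rnk (okPair iv))) 6 0 = 0 := by decide +kernel
theorem s0 : sumPow (grd 1 (chunk tbl (okRule iv tree) str 9)) 3 0 = 0 := by decide +kernel
theorem c0 : sumPow (clchunk tbl clo 639 255 2 4503599828697089) 11 0 = 0 := by decide +kernel

noncomputable def C : Cert := ⟨tbl, rnk, str, clo, tree, 3, 29, 9, 1, [1]⟩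

theorem good : C.Good rels iv :=
  ⟨by decide, by decide +kernel,
   all_lt_of_gblocks _ 6 3 1 (by decide) (blocks_cons (blocks_nil _) d0),
   by decide +kernel,
   all_lt_of_gblocks _ 3 1 1 (by decide) (blocks_cons (blocks_nil _) s0)⟩

theorem closed : C.Closed [1, 3] 3 :=
  ⟨by decide, by decide, 639, 255, 2, 4503599828697089, by decide, by decide, by decide +kernel,
    all_lt_of_blocks _ 11 1 1 (by decide) (blocks_cons (blocks_nil _) c0)⟩

theorem relIndex_le {G : Type*} [Group G] {el : ℕ → G} (R : RuleOK el rels iv) (H : Subgroup G)
    (hfix : ∀ x ∈ ([1] : List ℕ), el x ∈ H) :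
    H.relIndex (Subgroup.closure (el '' {x | x ∈ ([1, 3] : List ℕ)})) ≠ 0 ∧
      H.relIndex (Subgroup.closure (el '' {x | x ∈ ([1, 3] : List ℕ)})) ≤ 4 :=
  Cert.relIndex_le good closed R H hfix


end Cfsg.Agent.CO1.WA2

namespace Cfsg.Agent.CO1.WA3

open Cfsg.Agent.H58 Cfsg.Agent.CO1.WA

noncomputable def tb0 : Nat → Nat := (lf (nat_lit 0x4180000c500004100000c3000031000010300003180001050000304000102000021400008600001100000830000104000042000001800004500000000000000000000000000000000000000000000000000000000000000000000000000000000000000000000000000000000000000000000000000000000000000000000000000000000000000000000000000000000000000000000000000000000000000000000000000000000000000000000000000000000000000000000000000000000000000000000000000000000000000000000000000000000000000000000000000000001000000300000080000010000404000082000030800008100002100000430000118000005))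
noncomputable def rk0 : Nat → Nat := (lf (nat_lit 0x400003000020000100000))
noncomputable def st0 : Nat → Nat := (lf (nat_lit 0x2808000010100008a0001240000480000700008c0a00010c000010000440300008200010808000218000040000760001100000082800041010000820000e0000008180003f01))
noncomputable def cl0 : Nat → Nat := (lf (nat_lit 0x1e00001980003500006c0000c40001780007b0000760000e00001e00007d00007e0001dc0003a80007f))

noncomputable def tbl : Nat → Nat := (nd (nat_lit 1) tb0 (lf (nat_lit 0)))
noncomputable def rnk : Nat → Nat := (nd (nat_lit 1) rk0 (lf (nat_lit 0)))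
noncomputable def str : Nat → Nat := (nd (nat_lit 1) st0 (lf (nat_lit 0)))
noncomputable def clo : Nat → Nat := (nd (nat_lit 1) cl0 (lf (nat_lit 0)))
def tree : ST := (ST.node (ST.node (ST.node (ST.node ST.nil (nat_lit 1) (nat_lit 0) (nat_lit 0) ST.nil) (nat_lit 4291) (nat_lit 3) (nat_lit 1) ST.nil) (nat_lit 4421) (nat_lit 5) (nat_lit 1) (ST.node ST.nil (nat_lit 270466) (nat_lit 2) (nat_lit 2) ST.nil)) (nat_lit 17322117) (nat_lit 13) (nat_lit 3) (ST.node (ST.node ST.nil (nat_lit 18096450) (nat_lit 13) (nat_lit 2) ST.nil) (nat_lit 70917828739) (nat_lit 11) (nat_lit 5) (ST.node ST.nil (nat_lit 72042176710) (nat_lit 20) (nat_lit 4) ST.nil)))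

theorem d0 : sumPow (grd 4 (defn tbl rnk (okPair iv))) 6 0 = 0 := by decide +kernel
theorem s0 : sumPow (grd 1 (chunk tbl (okRule iv tree) str 9)) 3 0 = 0 := by decide +kernel
theorem c0 : sumPow (clchunk tbl clo 639 319 3 302231477421655631855617) 11 0 = 0 := by decide +kernel

noncomputable def C : Cert := ⟨tbl, rnk, str, clo, tree, 4, 28, 9, 1, [1, 3]⟩

theorem good : C.Good rels iv :=
  ⟨by decide, by decide +kernel,
   all_lt_of_gblocks _ 6 4 1 (by decide) (blocks_cons (blocks_nil _) d0),
   by decide +kernel,
   all_lt_of_gblocks _ 3 1 1 (by decide) (blocks_cons (blocks_nil _) s0)⟩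

theorem closed : C.Closed [1, 3, 5] 4 :=
  ⟨by decide, by decide, 639, 319, 3, 302231477421655631855617, by decide, by decide, by decide +kernel,
    all_lt_of_blocks _ 11 1 1 (by decide) (blocks_cons (blocks_nil _) c0)⟩

theorem relIndex_le {G : Type*} [Group G] {el : ℕ → G} (R : RuleOK el rels iv) (H : Subgroup G)
    (hfix : ∀ x ∈ ([1, 3] : List ℕ), el x ∈ H) :
    H.relIndex (Subgroup.closure (el '' {x | x ∈ ([1, 3, 5] : List ℕ)})) ≠ 0 ∧
      H.relIndex (Subgroup.closure (el '' {x | x ∈ ([1, 3, 5] : List ℕ)})) ≤ 5 :=
  Cert.relIndex_le good closed R H hfix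


end Cfsg.Agent.CO1.WA3

namespace Cfsg.Agent.CO1.WA4

open Cfsg.Agent.H58 Cfsg.Agent.CO1.WA

noncomputable def tb0 : Nat → Nat := (lf (nat_lit 0xf0c0003c40000f1c0003c80000f040003c20000e180003c50000e1c0003880000e040003820000d100003830000b080003410000d140003460000c040003420000a200003470000c140002c60000c0c0002c40000b0c0003040000b140003060000b04000302000092000030700008200002c70000a0c0002840000a140002860000908000281000090400020200009140002060000814000246000071000024300006100002030000704000182000071c000188000061c0001c800005040001c200004180001c500006040001420000318000185000050c000144000051c000148000021800014500004200000c700004100000c3000031000010300003200001070000304000102000021c0000880000110000083000011400004600001040000420000020000047000000000000000000000000000000000000000000000000000000000000000000000000000000000000000000000000000000000000000000000000000000000000000000000000000000000000000000000000000000000000000000018000005000001000000300000080000010000f180003850000e100003430000d200002870000c200002470000b200002070000a0800020100009100001c30000810000183000071800010500006180000c500005180000850000404000082000030800008100002100000430000120000007))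
noncomputable def rk0 : Nat → Nat := (lf (nat_lit 0xf0000e0000d0000c0000b0000a00009000080000700006000050000400003000020000100000))
noncomputable def st0 : Nat → Nat := (nd (nat_lit 1) (lf (nat_lit 0x19c00007800005030000ca00002c0000181800063010000c60200018c0000600000e0000c800000c14000308000070000020600017c000000100006100002600005800007800005050000020200016c0000600001b0000c000000c140002c808000590100001200001408000008080005500002800001c0c000298000590000160600014404000298000560000020600013c0400027800010000024000150000018280004d00001a0000040c0002580800005010000020200011c0002580000b00000e000120140002280000200008c0600010c000220100004500000c00009c00023000001050000860200010c0001000000303000082000088000008180003f01)) (lf (nat_lit 0xfa0000280000700007e00000a0a0001ec00002800003030000f20000140000081800077010000ee0000280000d0000780000060a0001d40000100000c00000e00000414000398080000100000400001c0c00038800015000006060001bc0000a00000d030000da020000140400000808000690000280000700003800000705)))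
noncomputable def cl0 : Nat → Nat := (nd (nat_lit 1) (lf (nat_lit 0xb00002bc0003080005a0000c40002c40003280005c0000bc000198000358000680001700001c4000598000730000e80001bc0005a80006d0001760001e40005b8000760000f80002f40003d00007f00014200027c0004e8000bf)) (lf (nat_lit 0x500000900001580002600005c0000c40005180002c0000660002940001a00003900006c0000f00001d0000450000840000f80002000004700009a000120000250000a700009c000154000280000a900015a00015c000290000ab)))

noncomputable def tbl : Nat → Nat := (nd (nat_lit 1) tb0 (lf (nat_lit 0)))
noncomputable def rnk : Nat → Nat := (nd (nat_lit 1) rk0 (lf (nat_lit 0)))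
noncomputable def str : Nat → Nat := (nd (nat_lit 2) st0 (lf (nat_lit 0)))
noncomputable def clo : Nat → Nat := (nd (nat_lit 2) cl0 (lf (nat_lit 0)))
def tree : ST := (ST.node (ST.node (ST.node (ST.node (ST.node ST.nil (nat_lit 1) (nat_lit 0) (nat_lit 0) ST.nil) (nat_lit 4291) (nat_lit 3) (nat_lit 1) ST.nil) (nat_lit 4356) (nat_lit 4) (nat_lit 1) (ST.node (ST.node ST.nil (nat_lit 4421) (nat_lit 5) (nat_lit 1) ST.nil) (nat_lit 4486) (nat_lit 6) (nat_lit 1) ST.nil)) (nat_lit 4551) (nat_lit 7) (nat_lit 1) (ST.node (ST.node (ST.node ST.nil (nat_lit 4616) (nat_lit 8) (nat_lit 1) ST.nil) (nat_lit 266305) (nat_lit 1) (nat_lit 2) ST.nil) (nat_lit 270466) (nat_lit 2) (nat_lit 2) (ST.node (ST.node ST.nil (nat_lit 17064006) (nat_lit 14) (nat_lit 2) ST.nil) (nat_lit 17330311) (nat_lit 15) (nat_lit 3) ST.nil))) (nat_lit 18096450) (nat_lit 13) (nat_lit 2) (ST.node (ST.node (ST.node (ST.node ST.nil (nat_lit 18121032) (nat_lit 26) (nat_lit 2) ST.nil) (nat_lit 18354561) (nat_lit 14) (nat_lit 3) ST.nil) (nat_lit 18620866) (nat_lit 15) (nat_lit 2) (ST.node (ST.node ST.nil (nat_lit 18637254) (nat_lit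 25) (nat_lit 2) ST.nil) (nat_lit 69860606020) (nat_lit 12) (nat_lit 4) ST.nil)) (nat_lit 70917828739) (nat_lit 11) (nat_lit 5) (ST.node (ST.node (ST.node ST.nil (nat_lit 71975051458) (nat_lit 11) (nat_lit 4) ST.nil) (nat_lit 72042176710) (nat_lit 20) (nat_lit 4) ST.nil) (nat_lit 72075739336) (nat_lit 22) (nat_lit 4) (ST.node (ST.node ST.nil (nat_lit 74156622148) (nat_lit 19) (nat_lit 4) ST.nil) (nat_lit 76304630212) (nat_lit 21) (nat_lit 4) ST.nil))))

theorem d0 : sumPow (grd 15 (defn tbl rnk (okPair iv))) 6 0 = 0 := by decide +kernel
theorem s0 : sumPow (grd 2 (chunk tbl (okRule iv tree) str 9)) 3 0 = 0 := by decide +kernel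
theorem c0 : sumPow (clchunk tbl clo 703 1023 4 20282411719271877267546645200897) 10 0 = 0 := by decide +kernel

noncomputable def C : Cert := ⟨tbl, rnk, str, clo, tree, 15, 17, 9, 2, [1, 3, 5]⟩

theorem good : C.Good rels iv :=
  ⟨by decide, by decide +kernel,
   all_lt_of_gblocks _ 6 15 1 (by decide) (blocks_cons (blocks_nil _) d0),
   by decide +kernel,
   all_lt_of_gblocks _ 3 2 1 (by decide) (blocks_cons (blocks_nil _) s0)⟩

theorem closed : C.Closed [1, 3, 5, 7] 15 :=
  ⟨by decide, by decide, 703, 1023, 4, 20282411719271877267546645200897, by decide, by decide, by decide +kernel,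
    all_lt_of_blocks _ 10 2 1 (by decide) (blocks_cons (blocks_nil _) c0)⟩

theorem relIndex_le {G : Type*} [Group G] {el : ℕ → G} (R : RuleOK el rels iv) (H : Subgroup G)
    (hfix : ∀ x ∈ ([1, 3, 5] : List ℕ), el x ∈ H) :
    H.relIndex (Subgroup.closure (el '' {x | x ∈ ([1, 3, 5, 7] : List ℕ)})) ≠ 0 ∧
      H.relIndex (Subgroup.closure (el '' {x | x ∈ ([1, 3, 5, 7] : List ℕ)})) ≤ 16 :=
  Cert.relIndex_le good closed R H hfix


end Cfsg.Agent.CO1.WA4

namespace Cfsg.Agent.CO1.WA5

open Cfsg.Agent.H58 Cfsg.Agent.CO1.WA

noncomputable def tb0 : Nat → Nat := (lf (nat_lit 0x1a180006450001a200006470001a280006490001a1000064300019100006830001928000689000192000068700019180006850001904000682000181c0006080001814000606000182400060a000171000060300016200005c700017240005ca000161c0005c800017040005c200015180005c5000162400058a000160c00058400016040005820001418000585000151c000508000141c000548000150c00054400015040005420001328000549000140c000484000120c00050400014040005020001128000509000130c0004c400013140004c600013040004c200011200004c700010080004810001214000486000121c0004880000f040004820000e28000489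000111400044600011040004420000e1000044300010040003c2000100c0003c4000101c0003c800010140003c60000f140004060000f1c0004080000f0c0004040000d280004090000c280003c90000c080003810000e1c0003880000d040003820000b180003850000d1c0003080000d0c0003040000c0c0003440000c1c0003480000c040003420000a1800034500009180003050000b0c0002c40000b240002ca0000b1c0002c80000a080002c10000a040002420000a2400024a0000a1c000248000091c000288000092400028a0000810000283000071000024300008040001c200008140001c600008240001ca000072400020a000071400020600006040002020000520000207000070400018200004200001c7000060c000184000062400018a00006140001860000320000187000051800010500005280001090000510000103000041000014300004280001490000418000145000040400014200003140000c600003240000ca00002100000c3000022400008a000021c00008800002040000820000118000085000011c000048000010c000044000010400004200000280000490000000000000000000000000000000200000070000018000005000001000000300000080000010001a04000602000190800060100018100005c30001718000545000161800050500015280004c9000142800044900013200004470001228000389000111000038300010280003490000f280003090000e180002c50000d180002850000c180002450000b080002410000a1000020300009100001c30000820000147000072000010700006200000c700005040000c200004080000c1000031000008300002180000450000128000009))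
noncomputable def rk0 : Nat → Nat := (lf (nat_lit 0x1a000190001800017000160001500014000130001200011000100000f0000e0000d0000c0000b0000a00009000080000700006000050000400003000020000100000))
noncomputable def st0 : Nat → Nat := (nd (nat_lit 2) (nd (nat_lit 1) (lf (nat_lit 0x368080000d000012040000140400000808000670000340000240c0003280001a00000e0600018c0003480000d030000c20200018c00033000001030000be0200017c0000c00001c0000c8000014140002e8000150000060600016c00008800001030000b202000024040000280800001010000a600015c0000880000b0000a80a000144000030000520300009e000008000280180004d00009c0400013c0000500000e0000a000000c14000268000030000020600012c040002580000c00002a000130000028280004900000a00000c0c0002380000700000206000114040002280000a00000a0600010c0000600000303000082000030000008180003f01)) (lf (nat_lit 0x2740000a00001e000032000004140004d8080009d0000420000340c0000480800005010000020200024c0000d00002e00013400001c140004880000f00000a0600023c000078000030300011a02000234040000080000200000e0600022c0000b8000030300011200005800006818000870100000a02000004040004180001a00004c00022800003828000810000260000140c0003f80000d000006060001f4040003e8080007d0000240000500003f000005050000f600003400001818000790000120000040c0003b800000020000f200006c0000f0000170000120a0000140400000808000710000240000940003b000005050000de000024000018180006d01)))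 (nd (nat_lit 3) (lf (nat_lit 0x6780000600002400002c00002828000cd000018000068000670000030500019600001400000818000c90100000200000800004818000c700002c000088000650000050500018a00003400005818000c30000220000040c00060808000c100002c0000a8000620000050500017e00003c000100000110000060a0002f4000088000010300017602000004040005c80001400001a060002dc000068000030300016a00003c00000818000b301000002020002c40000d0000150300015e00005c00000818000ad0100015a000050000150000b000000a0a0002ac000078000030300015200003c00000818000a7010000020000100000b818000a50000480000d8000560000050500014600007c00001818000a10000340000640c0004f8080009f0000380000b00005200000305)) (lf (nat_lit 0x1a02000024040000280800001010001aa0003640000b80000f0001ac0a00034c000050000d4030001a200001000069018000cf0000080003400c000668000ce02))))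
noncomputable def cl0 : Nat → Nat := (nd (nat_lit 2) (nd (nat_lit 1) (lf (nat_lit 0x1a00004bc000650000d30001900003300006a0000d80001b60003580009b0000e30001ce0004c4000728000e80001c2000374000998000df0002720003bc000750001350001d80003d00009d8000f70001e40003c00007e0000fa00027a0003e00007f80010b00021200041c0008280013f)) (lf (nat_lit 0xf40002400004600008e00012a00025c0008f80009d0001300004740004d0000a0000152000278000908000a60001440002ac000520001230001660002b0000928000b000015c0002d00005f8001270001700002d8000958000c10002520002e80005e0000c200025a000310000678000c6))) (nd (nat_lit 3) (lf (nat_lit 0x9c000444000288000490000940001580002a0000590000980001480003000005e000226000168000318000680000c80004540002e00006b0000e00001b00003700007300022e0001d4000330000760000f00001f4000400000830000fc00046c0008c80008400010c00022800044000093)) (lf (nat_lit 0x4300001b80003d0000760000e40001f00003500005e0000c40001980010f00008e00010800020000044))))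

noncomputable def tbl : Nat → Nat := (nd (nat_lit 1) tb0 (lf (nat_lit 0)))
noncomputable def rnk : Nat → Nat := (nd (nat_lit 1) rk0 (lf (nat_lit 0)))
noncomputable def str : Nat → Nat := (nd (nat_lit 4) st0 (lf (nat_lit 0)))
noncomputable def clo : Nat → Nat := (nd (nat_lit 4) cl0 (lf (nat_lit 0)))
def tree : ST := (ST.node (ST.node (ST.node (ST.node (ST.node (ST.node ST.nil (nat_lit 1) (nat_lit 0) (nat_lit 0) ST.nil) (nat_lit 4291) (nat_lit 3) (nat_lit 1) ST.nil) (nat_lit 4356) (nat_lit 4) (nat_lit 1) (ST.node ST.nil (nat_lit 4421) (nat_lit 5) (nat_lit 1) ST.nil)) (nat_lit 4486) (nat_lit 6) (nat_lit 1) (ST.node (ST.node (ST.node ST.nil (nat_lit 4551) (nat_lit 7) (nat_lit 1) ST.nil) (nat_lit 4616) (nat_lit 8) (nat_lit 1) ST.nil) (nat_lit 4681) (nat_lit 9) (nat_lit 1) (ST.node ST.nil (nat_lit 4746) (nat_lit 10) (nat_lit 1) ST.nil))) (nat_lit 266305) (nat_lit 1) (nat_lit 2) (ST.node (ST.node (ST.node (ST.node ST.nil (nat_lit 270466) (nat_lit 2) (nat_lit 2) ST.nil) (nat_lit 17072200) (nat_lit 16) (nat_lit 2) ST.nil) (nat_lit 17080394) (nat_lit 18) (nat_lit 2) (ST.node ST.nil (nat_lit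 17322117) (nat_lit 13) (nat_lit 3) ST.nil)) (nat_lit 17330311) (nat_lit 15) (nat_lit 3) (ST.node (ST.node ST.nil (nat_lit 17338505) (nat_lit 17) (nat_lit 3) ST.nil) (nat_lit 17604810) (nat_lit 24) (nat_lit 2) (ST.node ST.nil (nat_lit 18096450) (nat_lit 13) (nat_lit 2) ST.nil)))) (nat_lit 18121032) (nat_lit 26) (nat_lit 2) (ST.node (ST.node (ST.node (ST.node (ST.node ST.nil (nat_lit 18354561) (nat_lit 14) (nat_lit 3) ST.nil) (nat_lit 18620866) (nat_lit 15) (nat_lit 2) ST.nil) (nat_lit 18637254) (nat_lit 25) (nat_lit 2) (ST.node ST.nil (nat_lit 18653642) (nat_lit 30) (nat_lit 2) ST.nil)) (nat_lit 18878977) (nat_lit 16) (nat_lit 3) (ST.node (ST.node (ST.node ST.nil (nat_lit 19145282) (nat_lit 17) (nat_lit 2) ST.nil) (nat_lit 19153476) (nat_lit 23) (nat_lit 2) ST.nil) (nat_lit 19169864) (nat_lit 29) (nat_lit 2) (ST.node ST.nil (nat_lit 19427975) (nat_lit 30) (nat_lit 3) ST.nil))) (nat_lit 69860606020) (nat_lit 12) (nat_lit 4) (ST.node (ST.node (ST.node (ST.node ST.nil (nat_lit 70917828739) (nat_lit 11) (nat_lit 5) ST.nil) (nat_lit 71975051458) (nat_lit 11) (nat_lit 4) ST.nil) (nat_lit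 72042176710) (nat_lit 20) (nat_lit 4) (ST.node ST.nil (nat_lit 72075739336) (nat_lit 22) (nat_lit 4) ST.nil)) (nat_lit 74156622148) (nat_lit 19) (nat_lit 4) (ST.node (ST.node ST.nil (nat_lit 74257310026) (nat_lit 28) (nat_lit 4) ST.nil) (nat_lit 76304630212) (nat_lit 21) (nat_lit 4) (ST.node ST.nil (nat_lit 78486200902) (nat_lit 27) (nat_lit 4) ST.nil)))))

theorem d0 : sumPow (grd 26 (defn tbl rnk (okPair iv))) 6 0 = 0 := by decide +kernel
theorem s0 : sumPow (grd 4 (chunk tbl (okRule iv tree) str 9)) 3 0 = 0 := by decide +kernel
theorem c0 : sumPow (clchunk tbl clo 831 1727 5 1361129650225442402338739088851728334849) 10 0 = 0 := by decide +kernel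

noncomputable def C : Cert := ⟨tbl, rnk, str, clo, tree, 26, 6, 9, 4, [1, 3, 5, 7]⟩

theorem good : C.Good rels iv :=
  ⟨by decide, by decide +kernel,
   all_lt_of_gblocks _ 6 26 1 (by decide) (blocks_cons (blocks_nil _) d0),
   by decide +kernel,
   all_lt_of_gblocks _ 3 4 1 (by decide) (blocks_cons (blocks_nil _) s0)⟩

theorem closed : C.Closed [1, 3, 5, 7, 9] 26 :=
  ⟨by decide, by decide, 831, 1727, 5, 1361129650225442402338739088851728334849, by decide, by decide, by decide +kernel,
    all_lt_of_blocks _ 10 4 1 (by decide) (blocks_cons (blocks_nil _) c0)⟩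

theorem relIndex_le {G : Type*} [Group G] {el : ℕ → G} (R : RuleOK el rels iv) (H : Subgroup G)
    (hfix : ∀ x ∈ ([1, 3, 5, 7] : List ℕ), el x ∈ H) :
    H.relIndex (Subgroup.closure (el '' {x | x ∈ ([1, 3, 5, 7, 9] : List ℕ)})) ≠ 0 ∧
      H.relIndex (Subgroup.closure (el '' {x | x ∈ ([1, 3, 5, 7, 9] : List ℕ)})) ≤ 27 :=
  Cert.relIndex_le good closed R H hfix


end Cfsg.Agent.CO1.WA5

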